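import Mathlib.RingTheory.DedekindDomain.Ideal.Lemmas
import Mathlib.Algebra.BigOperators.Pi

set_option autoImplicit false

namespace K777.FrobPi

/-- one Dedekind domain -/
theorem frob_one {D : Type*} [CommRing D] [IsDedekindDomain D] (n : D) (hn : n ≠ 0) (I I' : Ideal D) (hnI : n ∈ I')
    (h : ∀ r : D, (∀ x ∈ I', r * x ∈ Ideal.span {n}) → ∀ x ∈ I, r * x ∈ Ideal.span {n}) : I ≤ I' := by
  have hle : Ideal.span {n} ≤ I' := (Ideal.span_singleton_le_iff_mem _).2 hnI
  obtain ⟨J', hJ'⟩ := Ideal.dvd_iff_le.2 hle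
  have hJ0 : J' ≠ 0 := by
    rintro rfl
    rw [mul_zero] at hJ'
    exact hn (Ideal.span_singleton_eq_bot.1 hJ')
  -- J' kills I' into (n), hence I J' ≤ (n) = I' J'
  have h1 : I * J' ≤ I' * J' := by
    rw [← hJ', Ideal.mul_le]
    intro x hx r hr
    rw [mul_comm]
    refine h r (fun y hy => ?_) x hx
    rw [hJ', mul_comm r y]
    exact Ideal.mul_mem_mul hy hr
  have h2 : I' * J' ∣ I * J' := Ideal.dvd_iff_le.2 h1
  exact Ideal.dvd_iff_le.1 ((mul_dvd_mul_iff_right hJ0).1 h2)

/-- finite product of Dedekind domains -/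
theorem frob_pi {J : Type} [Fintype J] [DecidableEq J] {D : J → Type} [∀ j, CommRing (D j)]
    [∀ j, IsDedekindDomain (D j)] (n : ℕ) (hn : ∀ j, (n : D j) ≠ 0) (I I' : Ideal (∀ j, D j))
    (hnI : (n : ∀ j, D j) ∈ I')
    (h : ∀ r : ∀ j, D j, (∀ x ∈ I', r * x ∈ Ideal.span {(n : ∀ j, D j)}) →
      ∀ x ∈ I, r * x ∈ Ideal.span {(n : ∀ j, D j)}) : I ≤ I' := by
  classical
  -- projections of ideals
  have key : ∀ (K : Ideal (∀ j, D j)) (x : ∀ j, D j), (∀ j, Pi.single j (x j) ∈ K) → x ∈ K := by
    intro K x hx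
    rw [← Finset.univ_sum_single x]
    exact sum_mem fun j _ => hx j
  have key2 : ∀ (K : Ideal (∀ j, D j)) (x : ∀ j, D j), x ∈ K → ∀ j, Pi.single j (x j) ∈ K := by
    intro K x hx j
    have : Pi.single j (x j) = (Pi.single j (1 : D j)) * x := by
      funext i
      by_cases hi : i = j
      · subst hi; simp
      · simp [hi]
    rw [this]
    exact K.mul_mem_left _ hx
  have hspan : ∀ y : ∀ j, D j, y ∈ Ideal.span {(n : ∀ j, D j)} ↔ ∀ j, y j ∈ Ideal.span {(n : D j)} := by
    intro y
    constructor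
    · intro hy j
      obtain ⟨a, rfl⟩ := Ideal.mem_span_singleton'.1 hy
      exact Ideal.mem_span_singleton'.2 ⟨a j, by simp⟩
    · intro hy
      choose a ha using fun j => Ideal.mem_span_singleton'.1 (hy j)
      exact Ideal.mem_span_singleton'.2 ⟨a, by funext j; simp [ha]⟩
  let P (K : Ideal (∀ j, D j)) (j : J) : Ideal (D j) :=
    { carrier := {y | Pi.single j y ∈ K}
      add_mem' := by
        intro a b ha hb
        simp only [Set.mem_ofPred_eq] at ha hb ⊢
        rw [Pi.single_add]
        exact K.add_mem ha hb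
      zero_mem' := by simp
      smul_mem' := by
        intro c y hy
        simp only [Set.mem_ofPred_eq] at hy ⊢
        have : Pi.single j (c • y) = (Pi.single j c : ∀ j, D j) * Pi.single j y := by
          rw [← Pi.single_mul]; rfl
        rw [this]
        exact K.mul_mem_left _ hy }
  intro x hx
  refine key I' x fun j => ?_
  have hxj : x j ∈ P I j := key2 I x hx j
  refine (frob_one (n : D j) (hn j) (P I j) (P I' j) ?_ ?_) hxj
  · have := key2 I' _ hnI j
    change Pi.single j (n : D j) ∈ I'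
    simpa using this
  · intro r hr y hy
    have h1 := h (Pi.single j r) (fun z hz => ?_) (Pi.single j y) hy
    · have := (hspan _).1 h1 j
      simpa using this
    · rw [hspan]
      intro i
      by_cases hi : i = j
      · subst hi
        have := hr (z i) (key2 I' z hz i)
        simpa using this
      · simp [hi]

end K777.FrobPi
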